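import Cfsg.Agent.Lib.LocalEven.S4Section
import Cfsg.Agent.Lib.LocalEven.DihedralCriterion
import Cfsg.Agent.S3755
import Mathlib.LinearAlgebra.Matrix.SpecialLinearGroup
import Mathlib.FieldTheory.Finite.Basic

/-!
`SL(2, 2^n)` has a section isomorphic to the symmetric group of degree three.
-/

set_option autoImplicit false
set_option linter.style.haveILetI false

namespace CfsgLib.SFourGen

open Cfsg CfsgLib.LocalEven

universe u

/-- A subgroup mapping onto `SL(2, F)` in characteristic two yields a section `S₃`. -/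
theorem involves_perm_three {G : Type u} [Group G] {L : Subgroup G} {F : Type} [Field F] [Fintype F] {n : ℕ}
    (hF : Fintype.card F = 2 ^ n) (f : ↥L →* Matrix.SpecialLinearGroup (Fin 2) F) (hf : Function.Surjective f) :
    Involves (Equiv.Perm (Fin 3)) G := by
  haveI : CharP F 2 := charP_of_card_eq_prime_pow (f := n) hF
  have h2 : (1 : F) + 1 = 0 := CharTwo.add_self_eq_zero 1
  have hneg : -(1 : F) = 1 := CharTwo.neg_eq 1
  let t : Matrix.SpecialLinearGroup (Fin 2) F := ⟨!![0, 1; 1, 0], by rw [Matrix.det_fin_two_of]; simp [hneg]⟩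
  let c : Matrix.SpecialLinearGroup (Fin 2) F := ⟨!![0, 1; 1, 1], by rw [Matrix.det_fin_two_of]; simp [hneg]⟩
  have ht : t * t = 1 := Subtype.ext (by
    show !![(0 : F), 1; 1, 0] * !![(0 : F), 1; 1, 0] = 1
    rw [Matrix.mul_fin_two, Matrix.one_fin_two]; simp)
  have hc : c ^ 3 = 1 := Subtype.ext (by
    show (!![(0 : F), 1; 1, 1]) ^ 3 = 1
    rw [pow_succ, pow_two, Matrix.mul_fin_two, Matrix.mul_fin_two, Matrix.one_fin_two]; simp [h2])
  have hct : c * t * c = t := Subtype.ext (by
    show !![(0 : F), 1; 1, 1] * !![(0 : F), 1; 1, 0] * !![(0 : F), 1; 1, 1] = !![(0 : F), 1; 1, 0]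
    rw [Matrix.mul_fin_two, Matrix.mul_fin_two]; simp [h2])
  have htc : t * c * t⁻¹ = c⁻¹ := by
    rw [mul_inv_eq_iff_eq_mul, eq_inv_mul_iff_mul_eq, ← mul_assoc]; exact hct
  have hc1 : c ≠ 1 := fun e => by
    have := congrArg (fun a : Matrix.SpecialLinearGroup (Fin 2) F => a 0 1) e
    simp [c] at this
  haveI : Fact (Nat.Prime 3) := ⟨Nat.prime_three⟩
  have ho : orderOf c = 3 := orderOf_eq_prime hc hc1
  have htn : t ∉ Subgroup.zpowers c := fun e => by
    obtain ⟨i, hi⟩ := Subgroup.mem_zpowers_iff.1 e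
    have hcm : t * c = c * t := by rw [← hi]; exact ((Commute.refl c).zpow_left i).eq
    rw [hcm, mul_inv_cancel_right] at htc
    have : c ^ 2 = 1 := by rw [pow_two]; nth_rewrite 1 [htc]; exact inv_mul_cancel c
    have := Nat.le_of_dvd (by norm_num) (orderOf_dvd_of_pow_eq_one this)
    omega
  have hinj := DihedralCrit.toGroup_injective (p := 3) ht hc htc ho htn
  obtain ⟨e⟩ := Cfsg.Agent.S3755.dihedral_three_equiv
  refine Offender.involves_of_injective L.subtype L.subtype_injective
    (Offender.involves_of_surjective f hf (Offender.involves_of_hom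
      (DihedralCrit.toGroup (p := 3) t c ht hc htc).range
      ((e.toMonoidHom).comp (MonoidHom.ofInjective hinj).symm.toMonoidHom) ?_))
  exact e.surjective.comp (MonoidHom.ofInjective hinj).symm.surjective

end CfsgLib.SFourGen
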