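import Cfsg.Agent.Lib.JGeneration.OffenderSection
import Cfsg.Agent.Lib.JGeneration.CentralOfOmega
import Cfsg.Agent.Lib.SFourGen.SLTwoSection
import Cfsg.Agent.Lib.SFactor.Hyp
import Cfsg.Agent.Lib.SFactor.JHat
import Cfsg.Agent.Lib.LocalEven.PReduced
import Cfsg.Agent.Lib.PStab.Complement

/-!
A group of characteristic two without a section `S₄` is generated by the centralizer of `Z(S)` and the
normalizer of `J(S)`.

An offender on the `2`-reduced closure of `Ω₁(Z(S))`, with the proper subgroup generated by these two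
subgroups, gives a section `SL(2, 2^n)`, so a section `S₃` of a faithful action on an elementary abelian
normal `2`-subgroup.
-/

set_option autoImplicit false
set_option linter.style.haveILetI false
set_option linter.unusedSectionVars false

namespace CfsgLib.SFourGen

open Subgroup Cfsg CfsgLib.PStab CfsgLib.JGeneration CfsgLib.LocalEven
open CfsgLib.Fusion (conjSub conjSub_conjSub conjSub_one conjSub_mono card_conjSub)
open CfsgLib.LocalEven.MinOffender (fx fx_anti card_fx_conj)

universe u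

variable {G : Type u} [Group G]

/-- The centre of `S`, inside `G`. -/
def zS (S : Subgroup G) : Subgroup G := S ⊓ centralizer (S : Set G)

/-- The involutions of the centre of `S`, with the identity. -/
def zOne (S : Subgroup G) : Subgroup G where
  carrier := {x | x ∈ zS S ∧ x ^ 2 = 1}
  one_mem' := ⟨one_mem _, one_pow _⟩
  mul_mem' := fun {a b} ha hb => ⟨mul_mem ha.1 hb.1, by
    rw [(show Commute a b from mem_centralizer_iff.1 hb.1.2 a ha.1.1).mul_pow, ha.2, hb.2, one_mul]⟩
  inv_mem' := fun {a} ha => ⟨inv_mem ha.1, by rw [inv_pow, ha.2, inv_one]⟩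

/-- The subgroup generated by `C(Z(S))` and `N(J(S))`. -/
def gen (S : Subgroup G) : Subgroup G := centralizer (zS S : Set G) ⊔ normalizer (jGen 2 S : Set G)

theorem zOne_le (S : Subgroup G) : zOne S ≤ zS S := fun _ h => h.1

theorem le_centralizer_zS (S : Subgroup G) : S ≤ centralizer (zS S : Set G) := fun s hs =>
  mem_centralizer_iff.2 fun _ hz => (mem_centralizer_iff.1 hz.2 s hs).symm

theorem le_gen (S : Subgroup G) : S ≤ gen S := (le_centralizer_zS S).trans le_sup_left

variable [Finite G]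

/-- In characteristic two the centralizers of `Ω₁(Z(S))` and `Z(S)` agree. -/
theorem centralizer_zOne_le (hc : HasCharP 2 G) (S : Sylow 2 G) :
    centralizer (zOne (S : Subgroup G) : Set G) ≤ centralizer (zS (S : Subgroup G) : Set G) := by
  haveI : Fact (Nat.Prime 2) := ⟨Nat.prime_two⟩
  set H := centralizer (zOne (S : Subgroup G) : Set G) with hH
  have hSH : (S : Subgroup G) ≤ H := (le_centralizer_zS _).trans (centralizer_le (zOne_le _))
  have hQS : pCore 2 G ≤ (S : Subgroup G) := CfsgLib.Cores.pCore_le_sylow S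
  have hcH : HasCharP 2 ↥H := hc.of_pCore_le_normalizer ((hQS.trans hSH).trans le_normalizer)
  set SH := S.subtype hSH with hSHd
  set W : Subgroup ↥H := pCore 2 ↥H ⊓ centralizer (pCore 2 ↥H : Set ↥H) with hW
  haveI : IsMulCommutative W :=
    ⟨⟨fun a b => Subtype.ext (mem_centralizer_iff.1 b.2.2 a a.2.1)⟩⟩
  have hWp : IsPGroup 2 W := (CfsgLib.Cores.isPGroup_pCore 2).to_le inf_le_left
  have hmem : ∀ v : ↥H, v ∈ (SH : Subgroup ↥H) → v ∈ centralizer ((SH : Subgroup ↥H) : Set ↥H) →
      (v : G) ∈ zS (S : Subgroup G) := fun v hv hvc => mem_inf.2 ⟨hv, mem_centralizer_iff.2 fun s hs =>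
    congrArg Subtype.val (mem_centralizer_iff.1 hvc ⟨s, hSH hs⟩ hs)⟩
  have hcen := central_of_omega SH hWp (fun v hv hvS hv2 => by
    have hvz : (v : G) ∈ zOne (S : Subgroup G) :=
      ⟨hmem v (CfsgLib.Cores.pCore_le_sylow SH hv.1) hvS, by
        have h1 := congrArg Subtype.val hv2
        rwa [SubgroupClass.coe_pow] at h1⟩
    exact mem_center_iff.2 fun h => Subtype.ext (mem_centralizer_iff.1 h.2 (v : G) hvz).symm)
  refine fun h hh => mem_centralizer_iff.2 fun z hz => ?_
  set z' : ↥H := ⟨z, hSH hz.1⟩ with hz'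
  have hzc : z' ∈ centralizer ((SH : Subgroup ↥H) : Set ↥H) := mem_centralizer_iff.2 fun s hs =>
    Subtype.ext (mem_centralizer_iff.1 hz.2 (s : G) hs)
  have hzW : z' ∈ W := by
    have h1 : z' ∈ centralizer (pCore 2 ↥H : Set ↥H) :=
      centralizer_le (CfsgLib.Cores.pCore_le_sylow SH) hzc
    exact mem_inf.2 ⟨hcH h1, h1⟩
  exact (congrArg Subtype.val (mem_center_iff.1 (hcen z' hzW hzc) ⟨h, hh⟩)).symm

/-- The generation theorem. -/
theorem gen_eq_top : ∀ (G : Type u) [Group G] [Finite G], ¬ Involves (Equiv.Perm (Fin 4)) G →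
    HasCharP 2 G → ∀ S : Sylow 2 G, gen (S : Subgroup G) = ⊤ := by
  suffices key : ∀ m, ∀ (G : Type u) [Group G] [Finite G], Nat.card G = m →
      ¬ Involves (Equiv.Perm (Fin 4)) G → HasCharP 2 G → ∀ S : Sylow 2 G, gen (S : Subgroup G) = ⊤ from
    fun G _ _ hf hc S => key _ G rfl hf hc S
  intro m
  induction m using Nat.strong_induction_on with
  | _ m IH =>
  intro G _ _ hm hfree hc S
  classical
  haveI : Fact (Nat.Prime 2) := ⟨Nat.prime_two⟩
  by_contra hYne
  set Y := gen (S : Subgroup G) with hY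
  have hQS : pCore 2 G ≤ (S : Subgroup G) := CfsgLib.Cores.pCore_le_sylow S
  have hJY : normalizer (jGen 2 (S : Subgroup G) : Set G) ≤ Y := le_sup_right
  have hZY : centralizer (zOne (S : Subgroup G) : Set G) ≤ Y :=
    (centralizer_zOne_le hc S).trans le_sup_left
  -- the reduced module
  have hXe : IsPReducedNormal 2 ((zOne (S : Subgroup G)).subgroupOf (S : Subgroup G)) := by
    have hXc : ∀ x ∈ (zOne (S : Subgroup G)).subgroupOf (S : Subgroup G), x ∈ center ↥(S : Subgroup G) :=
      fun x hx => mem_center_iff.2 fun y =>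
        Subtype.ext (mem_centralizer_iff.1 (zOne_le _ hx).2 (y : G) y.2)
    refine PRed.isPReducedNormal_iff.2 ⟨⟨fun x hx y => ?_⟩, ?_, fun N _ _ x _ => ?_⟩
    · rwa [mem_center_iff.1 (hXc x hx) y, mul_inv_cancel_right]
    · exact CfsgLib.PGroup.isElementaryAbelian_mk (fun a _ b hb => mem_center_iff.1 (hXc b hb) a)
        (fun a ha => Subtype.ext ((SubgroupClass.coe_pow a 2).trans (mem_subgroupOf.1 ha).2))
    · exact mem_centralizer_iff.2 fun y hy => (mem_center_iff.1 (hXc y hy) x).symm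
  have hVr := PRed.isPReducedNormal_normalClosure hc S (S : Subgroup G) le_rfl _ hXe
  rw [map_subgroupOf_eq_of_le (fun x (hx : x ∈ zOne (S : Subgroup G)) => hx.1.1)] at hVr
  set V := normalClosure (zOne (S : Subgroup G) : Set G) with hV
  have hVe : IsElementaryAbelian 2 V := hVr.2.1
  haveI hVn : V.Normal := hVr.1
  have hVS : V ≤ (S : Subgroup G) := (PRed.le_pCore_of hVr).trans hQS
  set C := centralizer (V : Set G) with hC
  have hCY : C ≤ Y := (centralizer_le subset_normalClosure).trans hZY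
  set π := QuotientGroup.mk' C with hπ
  have hπs : Function.Surjective π := QuotientGroup.mk'_surjective C
  haveI : IsMulCommutative V := hVe.1
  letI : CommGroup ↥V := { (inferInstance : Group ↥V) with mul_comm := fun a b => mul_comm' a b }
  have hker : C ≤ (MulAut.conjNormal (H := V)).ker := fun x hx => by
    refine MonoidHom.mem_ker.2 (MulEquiv.ext fun v => Subtype.ext ?_)
    rw [MulAut.conjNormal_apply, MulAut.one_apply, ← mem_centralizer_iff.1 hx v v.2, mul_inv_cancel_right]
  set ψ : G ⧸ C →* MulAut ↥V := QuotientGroup.lift C MulAut.conjNormal hker with hψ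
  letI : DistribMulAction (G ⧸ C) (Additive ↥V) :=
    { smul := fun q v => Additive.ofMul (ψ q v.toMul)
      one_smul := fun v => by
        show Additive.ofMul (ψ 1 v.toMul) = v
        rw [map_one]; rfl
      mul_smul := fun a b v => by
        show Additive.ofMul (ψ (a * b) v.toMul) = Additive.ofMul (ψ a (ψ b v.toMul))
        rw [map_mul]; rfl
      smul_zero := fun a => by
        show Additive.ofMul (ψ a 1) = 0
        rw [map_one]; rfl
      smul_add := fun a v w => by
        show Additive.ofMul (ψ a (v.toMul * w.toMul)) = _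
        rw [map_mul]; rfl }
  have hsm : ∀ (x : G) (v : Additive ↥V), (((π x) • v).toMul : G) = x * (v.toMul : G) * x⁻¹ :=
    fun x v => rfl
  set Tb : Sylow 2 (G ⧸ C) := S.mapSurjective hπs with hTb
  have hTbc : (Tb : Subgroup (G ⧸ C)) = (S : Subgroup G).map π := Sylow.coe_mapSurjective _ _
  set 𝒜 : Set (Subgroup (G ⧸ C)) := {A | A ≠ ⊥ ∧ (∀ a ∈ A, ∀ b ∈ A, a * b = b * a) ∧
    Nat.card (Additive ↥V) ≤ Nat.card ↥A * Nat.card ↥(fx (Additive ↥V) A) ∧
    ∀ A₀ : Subgroup (G ⧸ C), A₀ ≤ A → A₀ ≠ ⊥ → A₀ ≠ A →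
      Nat.card ↥A₀ * Nat.card ↥(fx (Additive ↥V) A₀) < Nat.card ↥A * Nat.card ↥(fx (Additive ↥V) A)} with h𝒜
  -- some member of `maxAdm` moves the module
  obtain ⟨A, hA, hAC⟩ : ∃ A ∈ maxAdm 2 (S : Subgroup G), ¬ A ≤ C := by
    by_contra hcon
    push Not at hcon
    obtain ⟨T, hT⟩ := CfsgLib.Transfer.exists_sylow_map_eq_inf C S
    have hJ : jGen 2 (S : Subgroup G) ≤ (S : Subgroup G) ⊓ C :=
      le_inf (jGen_le _ _) (sSup_le hcon)
    have hfr := Sylow.normalizer_sup_eq_top T
    rw [hT] at hfr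
    refine hYne (eq_top_iff.2 (hfr.ge.trans (sup_le ?_ hCY)))
    refine (normalizer_le_normalizer_jGen 2 _).trans ?_
    rw [CfsgLib.SFactor.jGen_eq_of_le inf_le_left hJ]
    exact hJY
  obtain ⟨B, hBA, hB⟩ : ∃ B, B ≤ A.map π ∧ B ∈ 𝒜 := by
    have hne : A.map π ≠ ⊥ := fun e => hAC (by
      rw [Subgroup.map_eq_bot_iff, QuotientGroup.ker_mk'] at e; exact e)
    have hoff : Nat.card (Additive ↥V) ≤ Nat.card ↥(A.map π) * Nat.card ↥(fx (Additive ↥V) (A.map π)) := by
      set D := A ⊓ C with hD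
      have hDV : ∀ a ∈ D, ∀ b ∈ V, a * b = b * a := fun a ha b hb =>
        (mem_centralizer_iff.1 (mem_inf.1 ha).2 b hb).symm
      have hAe : IsElementaryAbelian 2 A := hA.2.1
      have hB : Nat.card ↥(D ⊔ V) ≤ Nat.card A := hA.2.2 _ (sup_le (inf_le_left.trans hA.1) hVS)
        (CfsgLib.PGroup.elemAb_sup (CfsgLib.PGroup.elemAb_mono hAe inf_le_left) hVe hDV)
      have e1 := Subgroup.relIndex_mul_relIndex ⊥ (D ⊓ V) V bot_le inf_le_right
      have e2 := Subgroup.relIndex_mul_relIndex ⊥ D (D ⊔ V) bot_le le_sup_left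
      rw [Subgroup.relIndex_bot_left, Subgroup.relIndex_bot_left, Subgroup.inf_relIndex_right] at e1
      rw [Subgroup.relIndex_bot_left, Subgroup.relIndex_bot_left] at e2
      have h1 : D.relIndex V ≤ D.relIndex (D ⊔ V) :=
        Subgroup.relIndex_le_of_le_right le_sup_right Subgroup.FiniteIndex.index_ne_zero
      have h2 : Nat.card ↥(D ⊓ V) ≤ Nat.card ↥(fx (Additive ↥V) (A.map π)) := by
        refine Nat.card_le_card_of_injective
          (fun z => ⟨Additive.ofMul (⟨(z : G), z.2.2⟩ : ↥V), ?_⟩) (fun a b e => Subtype.ext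
            (congrArg (fun w => (((Subtype.val w : Additive ↥V).toMul : ↥V) : G)) e))
        rintro _ ⟨a, ha, rfl⟩
        refine Additive.toMul.injective (Subtype.ext ?_)
        rw [hsm]
        show a * (z : G) * a⁻¹ = z
        rw [adm_comm hA.2.1 ha (mem_inf.1 (mem_inf.1 z.2).1).1, mul_inv_cancel_right]
      have hcard := CfsgLib.JGeneration.card_map_mul π A
      rw [QuotientGroup.ker_mk', ← hD] at hcard
      have hcount : Nat.card V * Nat.card D ≤
          Nat.card A * Nat.card ↥(fx (Additive ↥V) (A.map π)) :=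
        calc Nat.card V * Nat.card D = Nat.card ↥(D ⊓ V) * (Nat.card D * D.relIndex V) := by rw [← e1]; ring
          _ ≤ Nat.card ↥(fx (Additive ↥V) (A.map π)) * Nat.card ↥(D ⊔ V) := by
              rw [← e2]; exact Nat.mul_le_mul h2 (Nat.mul_le_mul_left _ h1)
          _ ≤ Nat.card ↥(fx (Additive ↥V) (A.map π)) * Nat.card A := Nat.mul_le_mul_left _ hB
          _ = _ := mul_comm _ _
      rw [hcard] at hcount
      rw [show Nat.card (Additive ↥V) = Nat.card V from Nat.card_congr Additive.toMul]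
      exact Nat.le_of_mul_le_mul_left (by linarith [hcount]) (Nat.card_pos (α := D))
    obtain ⟨B, ⟨hBA, hBne, hBoff⟩, hmin⟩ := Set.exists_min_image
      {B : Subgroup (G ⧸ C) | B ≤ A.map π ∧ B ≠ ⊥ ∧
        Nat.card (Additive ↥V) ≤ Nat.card ↥B * Nat.card ↥(fx (Additive ↥V) B)}
      (fun B => Nat.card ↥B) (Set.toFinite _) ⟨_, le_rfl, hne, hoff⟩
    refine ⟨B, hBA, hBne, fun a ha b hb => ?_, hBoff, fun A₀ h0 h0ne h0B => ?_⟩
    · obtain ⟨a', ha', rfl⟩ := hBA ha
      obtain ⟨b', hb', rfl⟩ := hBA hb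
      rw [← map_mul, ← map_mul, adm_comm hA.2.1 ha' hb']
    · refine lt_of_lt_of_le (lt_of_not_ge fun hge => h0B ?_) hBoff
      exact Subgroup.eq_of_le_of_card_ge h0 (hmin A₀ ⟨h0.trans hBA, h0ne, hge⟩)
  have hBT : B ≤ (Tb : Subgroup (G ⧸ C)) := hTbc ▸ hBA.trans (Subgroup.map_mono hA.1)
  have hconj : ∀ A₁ ∈ 𝒜, ∀ g, conjSub g A₁ ∈ 𝒜 := fun A₁ hA₁ g => by
    obtain ⟨h1, h2, h3, h4⟩ := hA₁
    refine ⟨fun e => h1 ((Subgroup.map_eq_bot_iff_of_injective _ (MulAut.conj g).injective).1 e),
      ?_, ?_, fun A₀ h0 h0ne h0A => ?_⟩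
    · rintro _ ⟨a, ha, rfl⟩ _ ⟨b, hb, rfl⟩
      rw [← map_mul, ← map_mul, h2 a ha b hb]
    · rw [card_conjSub, card_fx_conj]; exact h3
    · have hcj : conjSub g⁻¹ A₀ ≤ A₁ := by
        have := conjSub_mono g⁻¹ h0
        rwa [conjSub_conjSub, inv_mul_cancel, conjSub_one] at this
      have hback : conjSub g (conjSub g⁻¹ A₀) = A₀ := by
        rw [conjSub_conjSub, mul_inv_cancel, conjSub_one]
      have h5 := h4 _ hcj (fun e => h0ne (by rw [← hback, e]; exact Subgroup.map_bot _))
        (fun e => h0A (by rw [← hback, e]))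
      rw [card_conjSub, card_fx_conj] at h5
      rwa [card_conjSub, card_fx_conj]
  -- the offender setting
  have hcomap : (Y.map π).comap π = Y := by
    rw [Subgroup.comap_map_eq, QuotientGroup.ker_mk', sup_eq_left.2 hCY]
  have hset : Setting 2 𝒜 Tb (Y.map π) (Additive ↥V) := by
    refine ⟨Nat.prime_two, fun v => ?_, hTbc ▸ Subgroup.map_mono (le_gen _), fun e => hYne ?_,
      fun q hq => ?_, fun A₁ hA₁ g => ?_, fun A₁ hA₁ => hA₁.2.1, fun A₁ hA₁ => hA₁.2.2.1,
      fun A₁ hA₁ => hA₁.2.2.2, ⟨B, hB, hBT⟩, ?_⟩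
    · refine Additive.toMul.injective (Subtype.ext ?_)
      rw [toMul_nsmul, toMul_zero, SubgroupClass.coe_pow]
      exact hVe.2 _ v.toMul.2
    · rw [← hcomap, e, Subgroup.comap_top]
    · obtain ⟨x, rfl⟩ := hπs q
      refine mem_map_of_mem π (hZY (mem_centralizer_iff.2 fun z hz => ?_))
      have h1 := hq (Additive.ofMul (⟨z, subset_normalClosure hz⟩ : ↥V)) (by
        intro s hs
        rw [hTbc] at hs
        obtain ⟨s, hs, rfl⟩ := hs
        refine Additive.toMul.injective (Subtype.ext ?_)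
        rw [hsm]
        show s * z * s⁻¹ = z
        rw [mem_centralizer_iff.1 hz.1.2 s hs, mul_inv_cancel_right])
      have h2 := congrArg (fun w : Additive ↥V => (w.toMul : G)) h1
      simp only [hsm] at h2
      exact (mul_inv_eq_iff_eq_mul.1 h2).symm
    · exact hconj A₁ hA₁ g
    · -- induction on the normalizer of the offenders
      set R := genIn 𝒜 (Tb : Subgroup (G ⧸ C)) with hR
      set N := (normalizer (R : Set (G ⧸ C))).comap π with hN
      have hSN : (S : Subgroup G) ≤ N := Subgroup.map_le_iff_le_comap.1 (hTbc ▸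
        le_normalizer.trans (CfsgLib.JGeneration.normalizer_le_genIn hconj _))
      have hNne : N ≠ ⊤ := by
        intro e
        have hRn : R.Normal := normalizer_eq_top_iff.1 (eq_top_iff.2 fun q _ => by
          obtain ⟨x, rfl⟩ := hπs q
          exact (e ▸ Subgroup.mem_top x : x ∈ N))
        haveI := hRn
        have hRp : IsPGroup 2 R := Tb.2.to_le (genIn_le _)
        have hle : R.comap π ≤ C := (PRed.isPReducedNormal_iff.1 hVr).2.2 _ (hRn.comap π) fun x hx => by
          obtain ⟨k, hk⟩ := hRp ⟨π x, hx⟩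
          refine ⟨k, (QuotientGroup.eq_one_iff _).1 ?_⟩
          show π (x ^ 2 ^ k) = 1
          rw [map_pow]; exact congrArg Subtype.val hk
        refine hB.1 (le_bot_iff.1 fun q hq => ?_)
        obtain ⟨x, rfl⟩ := hπs q
        exact Subgroup.mem_bot.2 ((QuotientGroup.eq_one_iff x).2 (hle (le_genIn hB hBT hq)))
      have hlt : Nat.card ↥N < m := by
        rw [← hm, ← Nat.card_congr (Subgroup.topEquiv (G := G)).toEquiv]
        exact CfsgLib.Techniques.Functor.card_lt_of_lt (lt_top_iff_ne_top.2 hNne)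
      have hIH := IH _ hlt ↥N rfl (fun hi => hfree (Offender.involves_of_injective N.subtype N.subtype_injective hi))
        (hc.of_pCore_le_normalizer ((hQS.trans hSN).trans le_normalizer)) (S.subtype hSN)
      have hmapS : ((S.subtype hSN : Sylow 2 ↥N) : Subgroup ↥N).map N.subtype = (S : Subgroup G) := by
        rw [Sylow.coe_subtype, map_subgroupOf_eq_of_le hSN]
      have hNY : N ≤ Y := by
        have h1 := congrArg (Subgroup.map N.subtype) hIH
        rw [gen, Subgroup.map_sup, ← MonoidHom.range_eq_map, range_subtype] at h1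
        rw [← h1]
        refine sup_le_sup ?_ ((Subgroup.le_normalizer_map _).trans (le_of_eq ?_))
        · rintro _ ⟨x, hx, rfl⟩
          refine mem_centralizer_iff.2 fun z hz => ?_
          have hz' : (⟨z, hSN hz.1⟩ : ↥N) ∈ zS ((S.subtype hSN : Sylow 2 ↥N) : Subgroup ↥N) :=
            mem_inf.2 ⟨hz.1, mem_centralizer_iff.2 fun s hs =>
              Subtype.ext (mem_centralizer_iff.1 hz.2 (s : G) hs)⟩
          exact congrArg Subtype.val (mem_centralizer_iff.1 hx _ hz')
        · rw [← jGen_map N.subtype_injective, hmapS]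
      intro q hq
      obtain ⟨x, rfl⟩ := hπs q
      exact mem_map_of_mem π (hNY hq)
  obtain ⟨L, F, _, _, n, hF, f, hf⟩ := hset.exists_sl2
  exact CfsgLib.SFactor.sThreeFree (C := C) hfree hVe le_rfl (involves_perm_three hF f hf)

end CfsgLib.SFourGen
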